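import Cfsg.Agent.HNSub.C352.Defs

/-! Generated: kernel checks. -/

set_option maxRecDepth 100000

set_option Elab.async false

namespace Cfsg.Agent.HNSub.C352

open Cfsg.Agent.CosetCert

theorem log_okAt20000 : allFrom data.checkLog 20000 2500 = true := by decide +kernel

theorem log_okAt22500 : allFrom data.checkLog 22500 2500 = true := by decide +kernel

theorem log_okAt25000 : allFrom data.checkLog 25000 2500 = true := by decide +kernel

theorem log_okAt27500 : allFrom data.checkLog 27500 2500 = true := by decide +kernel

theorem log_okAt30000 : allFrom data.checkLog 30000 2500 = true := by decide +kernel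

theorem log_okAt32500 : allFrom data.checkLog 32500 2500 = true := by decide +kernel

theorem log_okAt35000 : allFrom data.checkLog 35000 2500 = true := by decide +kernel

theorem log_okAt37500 : allFrom data.checkLog 37500 2500 = true := by decide +kernel

end Cfsg.Agent.HNSub.C352
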