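import Cfsg.Agent.HNSub.C352.Defs

/-! Generated: kernel checks. -/

set_option maxRecDepth 100000

set_option Elab.async false

namespace Cfsg.Agent.HNSub.C352

open Cfsg.Agent.CosetCert

theorem log_okAt200000 : allFrom data.checkLog 200000 2500 = true := by decide +kernel

theorem log_okAt202500 : allFrom data.checkLog 202500 2500 = true := by decide +kernel

theorem log_okAt205000 : allFrom data.checkLog 205000 2500 = true := by decide +kernel

theorem log_okAt207500 : allFrom data.checkLog 207500 2500 = true := by decide +kernel

theorem log_okAt210000 : allFrom data.checkLog 210000 2500 = true := by decide +kernel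

theorem log_okAt212500 : allFrom data.checkLog 212500 2500 = true := by decide +kernel

theorem log_okAt215000 : allFrom data.checkLog 215000 2500 = true := by decide +kernel

theorem log_okAt217500 : allFrom data.checkLog 217500 2500 = true := by decide +kernel

end Cfsg.Agent.HNSub.C352
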