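import Cfsg.Agent.HNSub.C352.Defs

/-! Generated: kernel checks. -/

set_option maxRecDepth 100000

set_option Elab.async false

namespace Cfsg.Agent.HNSub.C352

open Cfsg.Agent.CosetCert

theorem log_okAt220000 : allFrom data.checkLog 220000 2500 = true := by decide +kernel

theorem log_okAt222500 : allFrom data.checkLog 222500 2500 = true := by decide +kernel

theorem log_okAt225000 : allFrom data.checkLog 225000 2500 = true := by decide +kernel

theorem log_okAt227500 : allFrom data.checkLog 227500 2500 = true := by decide +kernel

theorem log_okAt230000 : allFrom data.checkLog 230000 2500 = true := by decide +kernel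

theorem log_okAt232500 : allFrom data.checkLog 232500 2500 = true := by decide +kernel

theorem log_okAt235000 : allFrom data.checkLog 235000 2500 = true := by decide +kernel

theorem log_okAt237500 : allFrom data.checkLog 237500 2500 = true := by decide +kernel

end Cfsg.Agent.HNSub.C352
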