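import Cfsg.Agent.HNSub.C352.Defs

/-! Generated: kernel checks. -/

set_option maxRecDepth 100000

set_option Elab.async false

namespace Cfsg.Agent.HNSub.C352

open Cfsg.Agent.CosetCert

theorem log_okAt240000 : allFrom data.checkLog 240000 2500 = true := by decide +kernel

theorem log_okAt242500 : allFrom data.checkLog 242500 2500 = true := by decide +kernel

theorem log_okAt245000 : allFrom data.checkLog 245000 2500 = true := by decide +kernel

theorem log_okAt247500 : allFrom data.checkLog 247500 2500 = true := by decide +kernel

theorem log_okAt250000 : allFrom data.checkLog 250000 2500 = true := by decide +kernel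

theorem log_okAt252500 : allFrom data.checkLog 252500 2500 = true := by decide +kernel

theorem log_okAt255000 : allFrom data.checkLog 255000 2500 = true := by decide +kernel

theorem log_okAt257500 : allFrom data.checkLog 257500 2500 = true := by decide +kernel

end Cfsg.Agent.HNSub.C352
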