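import Cfsg.Agent.HNSub.C352.Defs

/-! Generated: kernel checks. -/

set_option maxRecDepth 100000

set_option Elab.async false

namespace Cfsg.Agent.HNSub.C352

open Cfsg.Agent.CosetCert

theorem log_okAt260000 : allFrom data.checkLog 260000 2500 = true := by decide +kernel

theorem log_okAt262500 : allFrom data.checkLog 262500 2500 = true := by decide +kernel

theorem log_okAt265000 : allFrom data.checkLog 265000 2500 = true := by decide +kernel

theorem log_okAt267500 : allFrom data.checkLog 267500 2500 = true := by decide +kernel

theorem log_okAt270000 : allFrom data.checkLog 270000 2500 = true := by decide +kernel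

theorem log_okAt272500 : allFrom data.checkLog 272500 2500 = true := by decide +kernel

theorem log_okAt275000 : allFrom data.checkLog 275000 2500 = true := by decide +kernel

theorem log_okAt277500 : allFrom data.checkLog 277500 2500 = true := by decide +kernel

end Cfsg.Agent.HNSub.C352
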