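import Cfsg.Agent.HNSub.C352.Defs

/-! Generated: kernel checks. -/

set_option maxRecDepth 100000

set_option Elab.async false

namespace Cfsg.Agent.HNSub.C352

open Cfsg.Agent.CosetCert

theorem log_okAt300000 : allFrom data.checkLog 300000 2500 = true := by decide +kernel

theorem log_okAt302500 : allFrom data.checkLog 302500 2500 = true := by decide +kernel

theorem log_okAt305000 : allFrom data.checkLog 305000 2500 = true := by decide +kernel

theorem log_okAt307500 : allFrom data.checkLog 307500 2500 = true := by decide +kernel

theorem log_okAt310000 : allFrom data.checkLog 310000 2500 = true := by decide +kernel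

theorem log_okAt312500 : allFrom data.checkLog 312500 2500 = true := by decide +kernel

theorem log_okAt315000 : allFrom data.checkLog 315000 2500 = true := by decide +kernel

theorem log_okAt317500 : allFrom data.checkLog 317500 2500 = true := by decide +kernel

end Cfsg.Agent.HNSub.C352
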