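import Cfsg.Agent.HNSub.C352.Defs

/-! Generated: kernel checks. -/

set_option maxRecDepth 100000

set_option Elab.async false

namespace Cfsg.Agent.HNSub.C352

open Cfsg.Agent.CosetCert

theorem log_okAt320000 : allFrom data.checkLog 320000 2500 = true := by decide +kernel

theorem log_okAt322500 : allFrom data.checkLog 322500 2500 = true := by decide +kernel

theorem log_okAt325000 : allFrom data.checkLog 325000 2500 = true := by decide +kernel

theorem log_okAt327500 : allFrom data.checkLog 327500 2500 = true := by decide +kernel

theorem log_okAt330000 : allFrom data.checkLog 330000 2500 = true := by decide +kernel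

theorem log_okAt332500 : allFrom data.checkLog 332500 2500 = true := by decide +kernel

theorem log_okAt335000 : allFrom data.checkLog 335000 2500 = true := by decide +kernel

theorem log_okAt337500 : allFrom data.checkLog 337500 2500 = true := by decide +kernel

end Cfsg.Agent.HNSub.C352
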