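import Cfsg.Agent.HNSub.C352.Defs

/-! Generated: kernel checks. -/

set_option maxRecDepth 100000

set_option Elab.async false

namespace Cfsg.Agent.HNSub.C352

open Cfsg.Agent.CosetCert

theorem log_okAt340000 : allFrom data.checkLog 340000 2500 = true := by decide +kernel

theorem log_okAt342500 : allFrom data.checkLog 342500 2500 = true := by decide +kernel

theorem log_okAt345000 : allFrom data.checkLog 345000 2500 = true := by decide +kernel

theorem log_okAt347500 : allFrom data.checkLog 347500 2500 = true := by decide +kernel

theorem log_okAt350000 : allFrom data.checkLog 350000 2500 = true := by decide +kernel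

theorem log_okAt352500 : allFrom data.checkLog 352500 2500 = true := by decide +kernel

theorem log_okAt355000 : allFrom data.checkLog 355000 2500 = true := by decide +kernel

theorem log_okAt357500 : allFrom data.checkLog 357500 2500 = true := by decide +kernel

end Cfsg.Agent.HNSub.C352
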