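import Cfsg.Agent.HNSub.C352.Defs

/-! Generated: kernel checks. -/

set_option maxRecDepth 100000

set_option Elab.async false

namespace Cfsg.Agent.HNSub.C352

open Cfsg.Agent.CosetCert

theorem log_okAt360000 : allFrom data.checkLog 360000 2500 = true := by decide +kernel

theorem log_okAt362500 : allFrom data.checkLog 362500 2500 = true := by decide +kernel

theorem log_okAt365000 : allFrom data.checkLog 365000 2500 = true := by decide +kernel

theorem log_okAt367500 : allFrom data.checkLog 367500 2500 = true := by decide +kernel

theorem log_okAt370000 : allFrom data.checkLog 370000 2500 = true := by decide +kernel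

theorem log_okAt372500 : allFrom data.checkLog 372500 2500 = true := by decide +kernel

theorem log_okAt375000 : allFrom data.checkLog 375000 2500 = true := by decide +kernel

theorem log_okAt377500 : allFrom data.checkLog 377500 2500 = true := by decide +kernel

end Cfsg.Agent.HNSub.C352
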