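import Cfsg.Agent.HNSub.C352.Defs

/-! Generated: kernel checks. -/

set_option maxRecDepth 100000

set_option Elab.async false

namespace Cfsg.Agent.HNSub.C352

open Cfsg.Agent.CosetCert

theorem log_okAt180000 : allFrom data.checkLog 180000 2500 = true := by decide +kernel

theorem log_okAt182500 : allFrom data.checkLog 182500 2500 = true := by decide +kernel

theorem log_okAt185000 : allFrom data.checkLog 185000 2500 = true := by decide +kernel

theorem log_okAt187500 : allFrom data.checkLog 187500 2500 = true := by decide +kernel

theorem log_okAt190000 : allFrom data.checkLog 190000 2500 = true := by decide +kernel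

theorem log_okAt192500 : allFrom data.checkLog 192500 2500 = true := by decide +kernel

theorem log_okAt195000 : allFrom data.checkLog 195000 2500 = true := by decide +kernel

theorem log_okAt197500 : allFrom data.checkLog 197500 2500 = true := by decide +kernel

end Cfsg.Agent.HNSub.C352
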