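import Cfsg.Agent.HNSub.C352.Defs

/-! Generated: kernel checks. -/

set_option maxRecDepth 100000

set_option Elab.async false

namespace Cfsg.Agent.HNSub.C352

open Cfsg.Agent.CosetCert

theorem log_okAt280000 : allFrom data.checkLog 280000 2500 = true := by decide +kernel

theorem log_okAt282500 : allFrom data.checkLog 282500 2500 = true := by decide +kernel

theorem log_okAt285000 : allFrom data.checkLog 285000 2500 = true := by decide +kernel

theorem log_okAt287500 : allFrom data.checkLog 287500 2500 = true := by decide +kernel

theorem log_okAt290000 : allFrom data.checkLog 290000 2500 = true := by decide +kernel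

theorem log_okAt292500 : allFrom data.checkLog 292500 2500 = true := by decide +kernel

theorem log_okAt295000 : allFrom data.checkLog 295000 2500 = true := by decide +kernel

theorem log_okAt297500 : allFrom data.checkLog 297500 2500 = true := by decide +kernel

end Cfsg.Agent.HNSub.C352
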