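import Cfsg.Agent.HNSub.C352.FactsData
import Cfsg.Agent.HNSub.C352.JustData
import Cfsg.Agent.HNSub.C352.TableData
import Cfsg.Agent.CosetCert.CoxExtra
import Cfsg.Agent.CosetCert.Pack

/-! Generated: the certificate. -/

set_option maxRecDepth 100000

namespace Cfsg.Agent.HNSub.C352

open Cfsg.Agent.CosetCert

noncomputable def data : Data where
  K := 4
  n := 352
  M := 176330
  Nf := 381913
  nR := 16
  iv := fun x => if x = 1 then 2 else if x = 2 then 1 else x
  F := get48 factStore
  J := getVar justStore
  E := get48 edgeStore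
  L := get48 repStore
  P := get48 treeStore
  W := [
    [1, 1, 1, 1, 1, 1],
    [0, 0, 1, 0, 0, 2],
    [0, 2, 0, 1, 0, 2, 0, 1, 0, 2, 0, 1],
    [0, 1, 1, 0, 1, 1, 1, 0, 1, 1, 0, 1, 1, 1, 0, 1, 1, 0, 1, 1, 1],
    [0, 1, 0, 1, 0, 1, 0, 1, 0, 1, 0, 1, 0, 1, 0, 1],
    [0, 1, 0, 1, 1, 1, 0, 1, 0, 1, 1, 1, 0, 1, 0, 1, 1, 1, 0, 1, 0, 1, 1, 1],
    [3, 3],
    [3, 0, 3, 0],
    [3, 1, 0, 2, 2, 0, 2, 0, 2, 3, 1, 0, 1, 0, 1, 1, 0, 2, 0, 0],
    [3, 2, 0, 2, 0, 2, 2, 2, 3, 1, 1, 1, 0, 1, 0, 1, 0, 2, 0, 2, 0, 2, 2, 2, 3, 1, 1, 1, 0, 1, 0, 1, 0, 2, 0, 2, 0, 2, 2, 2, 3, 1, 1, 1, 0, 1, 0, 1, 0],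
    [0, 0],
    [],
    [0, 0],
    [1, 2],
    [2, 1],
    [3, 3],
    [0],
    [1]]
  PW := fun k => Nat.land (Nat.shiftRight 0x200000000000000000000000000000000000000000000000000000000000000010000000000000000000000000000000000000000000000000000000000000084000000000000000000000000000000000000000000000000000000000000004300000000000000000000000000000000000000000000000000000000000000620000000000000000000000000000000000000000000000000000000000000021000000000000000000000000000000000000000000000000000000000000000000000000000000000000000000000000000000000000000000000000000000210001104411084418c6118461104411084418c6118461104411084418c611846400000000000000000000000000000000000000008461108220888308c231844400000000000000000000000000000000000000000000000000000000000090240000000000000000000000000000000000000000000000000000000000000084000000000000000000000000000000000010841104421044110841104421044100000000000000000000000000000000000000000000104411044110441104410000000000000000000000000000000000000021082210442104420884208841000000000000000000000000000000000000000000000000010461104611046100000000000000000000000000000000000000000000000000000000061088210000000000000000000000000000000000000000000000000000000004210842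 (Nat.mul 256 k)) 0xffffffffffffffffffffffffffffffffffffffffffffffffffffffffffffffff
  powers := [
    ([1, 1, 1, 1, 1, 1], 1),
    ([0, 0, 1, 0, 0, 2], 1),
    ([0, 2, 0, 1, 0, 2, 0, 1, 0, 2, 0, 1], 1),
    ([0, 1, 1, 0, 1, 1, 1, 0, 1, 1, 0, 1, 1, 1, 0, 1, 1, 0, 1, 1, 1], 1),
    ([0, 1, 0, 1, 0, 1, 0, 1, 0, 1, 0, 1, 0, 1, 0, 1], 1),
    ([0, 1, 0, 1, 1, 1, 0, 1, 0, 1, 1, 1, 0, 1, 0, 1, 1, 1, 0, 1, 0, 1, 1, 1], 1),
    ([3, 3], 1),
    ([3, 0, 3, 0], 1),
    ([3, 1, 0, 2, 2, 0, 2, 0, 2, 3, 1, 0, 1, 0, 1, 1, 0, 2, 0, 0], 1),
    ([3, 2, 0, 2, 0, 2, 2, 2, 3, 1, 1, 1, 0, 1, 0, 1, 0, 2, 0, 2, 0, 2, 2, 2, 3, 1, 1, 1, 0, 1, 0, 1, 0, 2, 0, 2, 0, 2, 2, 2, 3, 1, 1, 1, 0, 1, 0, 1, 0], 1),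
    ([0, 0], 1),
    ([], 1),
    ([0, 0], 1),
    ([1, 2], 1),
    ([2, 1], 1),
    ([3, 3], 1)]

/-- The relators. -/
def relWords : List (List (Fin 3 × Bool)) := [
    [(1, true), (1, true), (1, true), (1, true), (1, true), (1, true)],
    [(0, true), (0, true), (1, true), (0, true), (0, true), (1, false)],
    [(0, false), (1, false), (0, true), (1, true), (0, false), (1, false), (0, true), (1, true), (0, false), (1, false), (0, true), (1, true)],
    [(0, false), (1, true), (1, true), (0, true), (1, true), (1, true), (1, true), (0, false), (1, true), (1, true), (0, true), (1, true), (1, true), (1, true), (0, false), (1, true), (1, true), (0, true), (1, true), (1, true), (1, true)],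
    [(0, true), (1, true), (0, true), (1, true), (0, true), (1, true), (0, true), (1, true), (0, true), (1, true), (0, true), (1, true), (0, true), (1, true), (0, true), (1, true)],
    [(0, true), (1, true), (0, true), (1, true), (1, true), (1, true), (0, true), (1, true), (0, true), (1, true), (1, true), (1, true), (0, true), (1, true), (0, true), (1, true), (1, true), (1, true), (0, true), (1, true), (0, true), (1, true), (1, true), (1, true)],
    [(2, true), (2, true)],
    [(2, true), (0, true), (2, true), (0, true)],
    [(2, false), (1, true), (0, false), (1, false), (1, false), (0, false), (1, false), (0, false), (1, false), (2, true), (1, true), (0, true), (1, true), (0, true), (1, true), (1, true), (0, true), (1, false), (0, false), (0, false)],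
    [(2, true), (1, false), (0, false), (1, false), (0, false), (1, false), (1, false), (1, false), (2, true), (1, true), (1, true), (1, true), (0, true), (1, true), (0, true), (1, true), (0, true), (1, false), (0, false), (1, false), (0, false), (1, false), (1, false), (1, false), (2, true), (1, true), (1, true), (1, true), (0, true), (1, true), (0, true), (1, true), (0, true), (1, false), (0, false), (1, false), (0, false), (1, false), (1, false), (1, false), (2, true), (1, true), (1, true), (1, true), (0, true), (1, true), (0, true), (1, true), (0, true)],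
    [(0, true), (0, true)]]

/-- The generators of the subgroup. -/
def subWords : List (FreeGroup (Fin 3)) := [FreeGroup.mk [(0, true)], FreeGroup.mk [(1, true)]]

/-- The numbering of the generators. -/
def enc (b : Fin 3) : Nat := match b with
  | ⟨0, _⟩ => 0
  | ⟨1, _⟩ => 1
  | ⟨_, _⟩ => 3

/-- The letter of a number. -/
def dec : Nat → Fin 3 × Bool
  | 0 => (0, true)
  | 1 => (1, true)
  | 2 => (1, false)
  | 3 => (2, true)
  | _ => (0, true)

end Cfsg.Agent.HNSub.C352
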